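import Cfsg.Agent.Lib.Sym78T.Transport
import Cfsg.Agent.Lib.SympExtraFour.Maximal

/-!
The base of the induction: in dimension four over a prime field the normaliser of a group of
order 32 and minus type is maximal among the isometries.
-/

set_option autoImplicit false
set_option linter.style.haveILetI false

namespace Cfsg.Agent.Lib.Sym78T

open Cfsg Cfsg.Geo Matrix
open Cfsg.Agent.Lib
open scoped commutatorElement

variable {F : Type*} [Field F] {V : Type*} [AddCommGroup V] [Module F V]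
  {ω : LinearMap.BilinForm F V} {R : Subgroup (Module.End F V)ˣ}

/-- Only trivial subspaces are invariant. -/
theorem eq_bot_or_top_of_invariant {k : ℕ} (D : Sym78.Ext ω k R) (W : Submodule F V)
    (hW : ∀ a ∈ R, ∀ v ∈ W, (a : Module.End F V) v ∈ W) : W = ⊥ ∨ W = ⊤ := by
  classical
  rcases eq_or_ne W ⊥ with hb | hb
  · exact Or.inl hb
  right
  haveI : Finite R := Nat.finite_of_card_ne_zero (by rw [D.card]; positivity)
  haveI := Fintype.ofFinite R
  obtain ⟨P, hP⟩ := W.subtype.exists_leftInverse_of_injective W.ker_subtype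
  let P' : Module.End F V := W.subtype ∘ₗ P
  let T : Module.End F V := ∑ a : R,
    ((a : (Module.End F V)ˣ) : Module.End F V) * P' *
      ((((a : R)⁻¹ : R) : (Module.End F V)ˣ) : Module.End F V)
  have hcomm : ∀ b ∈ R, T * (b : Module.End F V) = b * T := by
    intro b hb
    simp only [T, Finset.sum_mul, Finset.mul_sum]
    refine Fintype.sum_equiv (Equiv.mulLeft (⟨b, hb⟩ : R)⁻¹) _ _ fun a => ?_
    simp only [Equiv.coe_mulLeft, _root_.mul_inv_rev, inv_inv, Subgroup.coe_mul, InvMemClass.coe_inv,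
      Units.val_mul, mul_assoc, Units.mul_inv_cancel_left]
  obtain ⟨c, hc⟩ := D.scalar T hcomm
  have hin : ∀ v, T v ∈ W := fun v => by
    simp only [T, LinearMap.sum_apply, Module.End.mul_apply]
    exact Submodule.sum_mem _ fun a _ => hW _ a.2 _ (by simp [P'])
  obtain ⟨w, hw, hw0⟩ := Submodule.exists_mem_ne_zero_of_ne_bot hb
  have hTw : T w = (Fintype.card R : F) • w := by
    simp only [T, LinearMap.sum_apply, Module.End.mul_apply]
    rw [Finset.sum_eq_card_nsmul (b := w) fun a _ => ?_, Finset.card_univ, Nat.cast_smul_eq_nsmul]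
    have hm := hW _ (inv_mem a.2) w hw
    have hP' : P' ((((a : (Module.End F V)ˣ))⁻¹ : (Module.End F V)ˣ).val w) =
        (((a : (Module.End F V)ˣ))⁻¹ : (Module.End F V)ˣ).val w := by
      have := LinearMap.congr_fun hP ⟨_, hm⟩
      simp only [LinearMap.coe_comp, Function.comp_apply, Submodule.subtype_apply, LinearMap.id_apply] at this
      simp only [P', LinearMap.coe_comp, Function.comp_apply, this, Submodule.subtype_apply]
    simp only [InvMemClass.coe_inv, hP', ← Module.End.mul_apply, Units.mul_inv, Module.End.one_apply]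
  have hc0 : c ≠ 0 := by
    intro e
    rw [hc, e, zero_smul, LinearMap.zero_apply, eq_comm, smul_eq_zero] at hTw
    refine hTw.elim (fun h => ?_) hw0
    rw [← Nat.card_eq_fintype_card, D.card, Nat.cast_pow, Nat.cast_ofNat] at h
    exact pow_ne_zero _ D.two_ne h
  refine eq_top_iff.mpr fun v _ => ?_
  have := hin (c⁻¹ • v)
  rwa [hc, LinearMap.smul_apply, Module.End.one_apply, smul_smul, mul_inv_cancel₀ hc0, one_smul] at this

/-- The matrices of a group of symplectic type of order 32. -/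
theorem data_comap [Finite V] (D : Sym78.Ext ω 2 R) (Ψ : (Fin 2 ⊕ Fin 2 → F) ≃ₗ[F] V) :
    SympExtraFour.Data (R.comap (toEnd Ψ).toMonoidHom) := by
  classical
  set R' := R.comap (toEnd Ψ).toMonoidHom with hR'
  have hmap : R'.map (toEnd Ψ).toMonoidHom = R :=
    Subgroup.map_comap_eq_self_of_surjective (toEnd Ψ).surjective R
  have hinj := (toEnd Ψ).injective
  have hcard : Nat.card R' = 32 := by
    rw [← Subgroup.card_map_of_injective (K := R') (f := (toEnd Ψ).toMonoidHom) hinj, hmap, D.card]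
    norm_num
  haveI : Finite R' := Nat.finite_of_card_ne_zero (by omega)
  have hneg : (-1 : GL (Fin 2 ⊕ Fin 2) F) ∈ R' := by
    show toEnd Ψ (-1) ∈ R
    rw [toEnd_neg_one]
    exact D.neg
  have hcen : ∀ a : R', a ∈ Subgroup.center R' ↔
      ((a : GL (Fin 2 ⊕ Fin 2) F) = 1 ∨ (a : GL (Fin 2 ⊕ Fin 2) F) = -1) := by
    intro a
    constructor
    · intro ha
      rcases D.center _ a.2 (fun b hb => by
        obtain ⟨c, rfl⟩ := (toEnd Ψ).surjective b
        have := congrArg (fun x : R' => toEnd Ψ x) (Subgroup.mem_center_iff.mp ha ⟨c, hb⟩).symm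
        simpa using this) with e | e
      · exact Or.inl (hinj (by simpa using e))
      · exact Or.inr (hinj (by rw [toEnd_neg_one]; exact e))
    · rintro (h | h) <;> rw [Subgroup.mem_center_iff] <;> intro b <;> apply Subtype.ext <;> simp [h]
  have hne : (-1 : GL (Fin 2 ⊕ Fin 2) F) ≠ 1 := by
    intro h
    have h' := congrArg (fun g : GL (Fin 2 ⊕ Fin 2) F =>
      (g : Matrix (Fin 2 ⊕ Fin 2) (Fin 2 ⊕ Fin 2) F) (Sum.inl 0) (Sum.inl 0)) h
    simp at h'
    exact D.two_ne (by linear_combination (-1 : F) * h')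
  refine ⟨D.two_ne, rfl, hcard, ?_, IsPGroup.of_card (n := 5) (by rw [hcard]; norm_num), ?_, ⟨?_, ?_⟩, ?_⟩
  · rw [Nat.card_eq_two_iff]
    refine ⟨⟨⟨1, one_mem _⟩, (hcen _).mpr (Or.inl rfl)⟩, ⟨⟨-1, hneg⟩, (hcen _).mpr (Or.inr rfl)⟩,
      fun e => hne (congrArg (fun z : Subgroup.center R' => ((z : R') : GL (Fin 2 ⊕ Fin 2) F)) e).symm,
      Set.eq_univ_of_forall fun z => ?_⟩
    rcases (hcen _).mp z.2 with e | e
    · exact Or.inl (Subtype.ext (Subtype.ext e))
    · exact Or.inr (Subtype.ext (Subtype.ext e))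
  · rw [commutator_eq_closure, Subgroup.closure_le]
    rintro _ ⟨a, b, rfl⟩
    refine (hcen _).mpr ?_
    have h : ((⁅a, b⁆ : R') : GL (Fin 2 ⊕ Fin 2) F) = a * b * (a : GL (Fin 2 ⊕ Fin 2) F)⁻¹ *
      (b : GL (Fin 2 ⊕ Fin 2) F)⁻¹ := rfl
    rw [h]
    rcases D.comm _ a.2 _ b.2 with e | e
    · left
      apply hinj
      simp only [map_mul, map_inv, map_one, MulEquiv.coe_toMonoidHom] at e ⊢
      rw [e]
      group
    · right
      apply hinj
      simp only [map_mul, map_inv, toEnd_neg_one, MulEquiv.coe_toMonoidHom] at e ⊢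
      rw [e, neg_mul, neg_mul]
      group
  · intro W hW
    rcases eq_bot_or_top_of_invariant D (W.map Ψ.toLinearMap) (fun a ha v hv => by
        obtain ⟨g, rfl⟩ := (toEnd Ψ).surjective a
        obtain ⟨w, hw, rfl⟩ := hv
        rw [toEnd_apply]
        refine ⟨(g : Matrix _ _ F) *ᵥ w, hW _ ⟨g, ha, rfl⟩ ⟨w, hw, Matrix.toLin'_apply _ _⟩, ?_⟩
        simp) with e | e
    · left
      refine Submodule.map_injective_of_injective Ψ.injective ?_
      rw [e, Submodule.map_bot]
    · right
      refine Submodule.map_injective_of_injective Ψ.injective ?_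
      rw [e, Submodule.map_top, LinearEquiv.range]
  · intro M hM
    let T : Module.End F V := Ψ.toLinearMap ∘ₗ Matrix.toLin' M ∘ₗ Ψ.symm.toLinearMap
    obtain ⟨c, hc⟩ := D.scalar T fun a ha => by
      obtain ⟨g, rfl⟩ := (toEnd Ψ).surjective a
      refine LinearMap.ext fun v => ?_
      have h := congrArg (fun A => A *ᵥ Ψ.symm v) (hM _ ⟨g, ha, rfl⟩)
      simp only [← Matrix.mulVec_mulVec] at h
      simp only [Module.End.mul_apply, toEnd_apply, T, LinearMap.coe_comp, Function.comp_apply,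
        LinearEquiv.coe_coe, Ψ.symm_apply_apply, Matrix.toLin'_apply, h]
    refine ⟨c, Matrix.ext_of_mulVec_single fun i => ?_⟩
    have h := congrArg Ψ.symm (LinearMap.congr_fun hc (Ψ (Pi.single i 1)))
    rw [Matrix.smul_mulVec, Matrix.one_mulVec]
    simpa [T] using h
  · intro A hA hsq
    let E := (A.map R'.subtype).map (toEnd Ψ).toMonoidHom
    have hc : Nat.card E = Nat.card A := by
      rw [Subgroup.card_map_of_injective (f := (toEnd Ψ).toMonoidHom) hinj,
        Subgroup.card_map_of_injective R'.subtype_injective]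
    rw [← hc]
    refine D.minus E ?_ ?_ ?_
    · rintro _ ⟨_, ⟨a, -, rfl⟩, rfl⟩; exact a.2
    · rintro _ ⟨_, ⟨a, ha, rfl⟩, rfl⟩ _ ⟨_, ⟨b, hb, rfl⟩, rfl⟩
      have h : a * b = b * a := congrArg Subtype.val (hA.is_comm.comm ⟨a, ha⟩ ⟨b, hb⟩)
      rw [← map_mul, ← map_mul, ← map_mul, ← map_mul, h]
    · rintro _ ⟨_, ⟨a, ha, rfl⟩, rfl⟩
      rw [← map_mul, ← map_mul, hsq a ha, map_one, map_one]

/-- The base of the induction. -/
theorem isMaximalIn_two [Fintype F] [Finite V] (D : Sym78.Ext ω 2 R) (hp : (Fintype.card F).Prime) :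
    IsMaximalIn (Sym78.spSub ω) (Subgroup.normalizer (R : Set (Module.End F V)ˣ) ⊓ Sym78.spSub ω) := by
  haveI := D.nontriv
  haveI : Module.Finite F V := Module.Finite.of_finite
  obtain ⟨Ψ, hΨ⟩ := exists_isometry (m := 2) D.alt D.nondeg (by rw [D.dim]; norm_num)
  have hmap : (R.comap (toEnd Ψ).toMonoidHom).map (toEnd Ψ).toMonoidHom = R :=
    Subgroup.map_comap_eq_self_of_surjective (toEnd Ψ).surjective R
  have hsp : R.comap (toEnd Ψ).toMonoidHom ≤ spGL 2 F := fun g hg => by
    have := D.le hg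
    rw [← map_spGL Ψ ω hΨ] at this
    obtain ⟨g', hg', e⟩ := this
    exact (toEnd Ψ).injective e ▸ hg'
  have h := (isMaximalIn_iff Ψ ω hΨ _).mp
    (SympExtraFour.isMaximalIn_normalizer (data_comap D Ψ) hsp hp)
  rwa [hmap] at h

end Cfsg.Agent.Lib.Sym78T
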