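import Cfsg.Agent.Lib.Sym78T.Transport
import Cfsg.Agent.Lib.Sym78.Full
import Cfsg.Agent.Lib.Forms.Symplectic

/-!
A group containing every transvection of a non-degenerate alternating space contains all isometries.
-/

set_option autoImplicit false
set_option linter.style.haveILetI false

namespace Cfsg.Agent.Lib.Sym78T

open Cfsg Cfsg.Geo Matrix
open Cfsg.Agent.Lib

variable {F : Type*} [Field F] {V : Type*} [AddCommGroup V] [Module F V]
  {ω : LinearMap.BilinForm F V}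

theorem spSub_le_of_full_of_frame {m : ℕ} (Ψ : (Fin m ⊕ Fin m → F) ≃ₗ[F] V)
    (hΨ : ∀ u v, ω (Ψ u) (Ψ v) = sympForm m F u v) {H : Subgroup (Module.End F V)ˣ}
    (hH : Sym78.Full ω H) : Sym78.spSub ω ≤ H := by
  classical
  intro x hx
  rw [← map_spGL Ψ ω hΨ] at hx
  obtain ⟨g, hg, rfl⟩ := hx
  have hdet : IsUnit (g : Matrix (Fin m ⊕ Fin m) (Fin m ⊕ Fin m) F).det := by
    rw [← Matrix.isUnit_iff_isUnit_det]
    exact g.isUnit
  have hgm : (g : Matrix (Fin m ⊕ Fin m) (Fin m ⊕ Fin m) F) ∈ Matrix.symplecticGroup (Fin m) F :=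
    Forms.mem_symplecticGroup_iff_preserves.2 hg
  let f : Matrix.symplecticGroup (Fin m) F →* (Module.End F V)ˣ :=
    (toEnd Ψ).toMonoidHom.comp (MonoidHom.toHomUnits (Matrix.symplecticGroup (Fin m) F).subtype)
  have htop : H.comap f = ⊤ := by
    rw [eq_top_iff, ← Forms.closure_sympTransSet_eq_top, Subgroup.closure_le]
    rintro A ⟨w, c, hA⟩
    refine hH (f A) (Ψ w) c fun y => ?_
    show (toEnd Ψ (MonoidHom.toHomUnits (Matrix.symplecticGroup (Fin m) F).subtype A) : Module.End F V) y = _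
    rw [toEnd_apply]
    show Ψ ((A : Matrix (Fin m ⊕ Fin m) (Fin m ⊕ Fin m) F) *ᵥ Ψ.symm y) = _
    rw [hA, Forms.sympTransvection_mulVec, map_add, map_smul, Ψ.apply_symm_apply]
    congr 3
    rw [← hΨ, Ψ.apply_symm_apply]
  have h : f ⟨_, hgm⟩ ∈ H := by
    have h' : (⟨_, hgm⟩ : Matrix.symplecticGroup (Fin m) F) ∈ H.comap f := htop ▸ Subgroup.mem_top _
    exact h'
  have e : f ⟨_, hgm⟩ = toEnd Ψ g := congrArg (toEnd Ψ) (Units.ext rfl)
  rw [e] at h
  exact h

/-- All transvections generate the isometry group. -/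
theorem spSub_le_of_full [Finite V] {k : ℕ} {R : Subgroup (Module.End F V)ˣ}
    (D : Sym78.Ext ω (k + 1) R) {H : Subgroup (Module.End F V)ˣ} (hH : Sym78.Full ω H) :
    Sym78.spSub ω ≤ H := by
  haveI : Module.Finite F V := Module.Finite.of_finite
  obtain ⟨Ψ, hΨ⟩ := exists_isometry (m := 2 ^ k) D.alt D.nondeg (by rw [D.dim, pow_succ]; omega)
  exact spSub_le_of_full_of_frame Ψ hΨ hH

end Cfsg.Agent.Lib.Sym78T
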