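import Cfsg.Agent.Lib.Sym78.Fusion

/-!
A symplectic transvection does not normalise a group of symplectic type, so the normaliser is a
proper subgroup of the isometry group.
-/

set_option autoImplicit false
set_option linter.style.haveILetI false

namespace Cfsg.Agent.Lib.Sym78T

variable {F : Type*} [Field F] {V : Type*} [AddCommGroup V] [Module F V]
  {ω : LinearMap.BilinForm F V} {R : Subgroup (Module.End F V)ˣ}

/-- A transvection as a unit. -/
def stu (ω : LinearMap.BilinForm F V) (v : V) (hv : ω v v = 0) : (Module.End F V)ˣ where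
  val := 1 + (ω.flip v).smulRight v
  inv := 1 - (ω.flip v).smulRight v
  val_inv := LinearMap.ext fun x => by
    simp [hv]
  inv_val := LinearMap.ext fun x => by
    simp [hv]

theorem stu_apply (v : V) (hv : ω v v = 0) (x : V) :
    (stu ω v hv : Module.End F V) x = x + ω x v • v := by
  simp [stu]

theorem stu_inv_apply (v : V) (hv : ω v v = 0) (x : V) :
    (((stu ω v hv)⁻¹ : (Module.End F V)ˣ) : Module.End F V) x = x - ω x v • v := by
  simp [stu, Units.inv_mk]

theorem stu_mem (alt : ∀ v, ω v v = 0) (v : V) : stu ω v (alt v) ∈ Sym78.spSub ω := by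
  intro x y
  have h := LinearMap.IsAlt.neg alt y v
  simp only [stu_apply, map_add, map_smul, LinearMap.add_apply, LinearMap.smul_apply, smul_eq_mul, alt v]
  rw [← h]
  ring

/-- The normaliser is proper. -/
theorem normalizer_lt {k : ℕ} (D : Sym78.Ext ω k R) (hk : 2 ≤ k) :
    Subgroup.normalizer (R : Set (Module.End F V)ˣ) ⊓ Sym78.spSub ω < Sym78.spSub ω := by
  classical
  haveI := D.nontriv
  haveI : Module.Finite F V := Module.finite_of_finrank_pos (by rw [D.dim]; positivity)
  refine lt_of_le_of_ne inf_le_right fun hEq => ?_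
  have hN : Sym78.spSub ω ≤ Subgroup.normalizer (R : Set (Module.End F V)ˣ) :=
    hEq ▸ inf_le_left
  -- a vector not fixed up to scalars by some element
  haveI : Finite R := Nat.finite_of_card_ne_zero (by rw [D.card]; positivity)
  obtain ⟨a, ha, ha1, ha2⟩ : ∃ a ∈ R, a ≠ 1 ∧ a ≠ -1 := by
    by_contra! h
    have hle : R ≤ Sym78.negs F V := fun a ha => by
      rcases eq_or_ne a 1 with e | e
      · exact Or.inl e
      · exact Or.inr (h a ha e)
    have hfin : Nat.card (Sym78.negs F V) ≤ 2 := by
      have hset : (Sym78.negs F V : Set (Module.End F V)ˣ) = {1, -1} := rfl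
      rw [← SetLike.coe_sort_coe, hset, Nat.card_coe_set_eq]
      exact le_trans (Set.ncard_insert_le _ _) (by simp)
    haveI : Finite (Sym78.negs F V) := by
      have hset : (Sym78.negs F V : Set (Module.End F V)ˣ) = {1, -1} := rfl
      exact (hset ▸ Set.toFinite ({1, -1} : Set (Module.End F V)ˣ)).to_subtype
    have := (Subgroup.card_le_of_le hle).trans hfin
    rw [D.card] at this
    have : 2 ^ 1 < 2 ^ (1 + 2 * k) := Nat.pow_lt_pow_right one_lt_two (by omega)
    omega
  obtain ⟨v, hv⟩ : ∃ v, ∀ c : F, (a : Module.End F V) v ≠ c • v := by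
    by_contra! h
    obtain ⟨c, hc⟩ : ∃ c : F, (a : Module.End F V) = c • 1 :=
      (LinearMap.exists_eq_smul_id_of_forall_notLinearIndependent (f := (a : Module.End F V))
        fun v hli => by
          obtain ⟨c, hc⟩ := h v
          obtain ⟨h1, h2⟩ := linearIndependent_fin2.mp hli
          rcases eq_or_ne c 0 with e | e
          · exact h1 (by simpa [e] using hc)
          · exact h2 c⁻¹ (by simp [hc, e]))
    exact D.not_scalar ha ha1 ha2 c hc
  set w := (a : Module.End F V) v with hw
  set t := stu ω v (D.alt v) with ht
  set g := t * (a * t⁻¹ * a⁻¹) with hg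
  have hgR : g ∈ R := by
    have h := (Subgroup.mem_normalizer_iff.mp (hN (stu_mem D.alt v)) a).mp ha
    have e : g = t * a * t⁻¹ * a⁻¹ := by rw [hg]; group
    rw [e]
    exact mul_mem h (inv_mem ha)
  have hgx : ∀ x, (g : Module.End F V) x = (x - ω x w • w) + ω (x - ω x w • w) v • v := by
    intro x
    have h := D.le ha (((a⁻¹ : (Module.End F V)ˣ) : Module.End F V) x) v
    rw [← Module.End.mul_apply, Units.mul_inv, Module.End.one_apply] at h
    simp only [hg, Units.val_mul, Module.End.mul_apply, ht, stu_apply, stu_inv_apply, map_sub, map_smul]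
    rw [← Module.End.mul_apply (a : Module.End F V), Units.mul_inv, Module.End.one_apply]
    simp only [← h, ← hw, LinearMap.sub_apply, LinearMap.smul_apply, smul_eq_mul]
    module
  have hind : ∀ α β : F, α • v + β • w = 0 → α = 0 ∧ β = 0 := by
    intro α β h
    rcases eq_or_ne β 0 with rfl | hβ
    · rw [zero_smul, add_zero, smul_eq_zero] at h
      refine ⟨h.resolve_right fun e => hv 0 ?_, rfl⟩
      simp [hw, e]
    · refine absurd ?_ (hv (-(β⁻¹ * α)))
      have := congrArg (β⁻¹ • ·) h
      simp only [smul_add, smul_smul, inv_mul_cancel₀ hβ, one_smul, smul_zero] at this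
      rw [neg_smul, ← add_eq_zero_iff_eq_neg, add_comm]
      exact this
  set c := ω v w with hc
  have hwv : ω w v = -c := by rw [hc]; exact (LinearMap.IsAlt.neg D.alt v w).symm
  have hgv : (g : Module.End F V) v = (1 + c * c) • v + (-c) • w := by
    rw [hgx, map_sub, LinearMap.sub_apply, map_smul, LinearMap.smul_apply, D.alt, hwv, ← hc, smul_eq_mul]
    module
  have hgw : (g : Module.End F V) w = (-c) • v + (1 : F) • w := by
    rw [hgx, D.alt, zero_smul, sub_zero, hwv]
    module
  rcases D.sq g hgR with h2 | h2
  · have h2v : ∀ x, (g : Module.End F V) ((g : Module.End F V) x) = x := fun x => by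
      rw [← Module.End.mul_apply, ← Units.val_mul, h2, Units.val_one, Module.End.one_apply]
    have e1 := h2v v
    rw [hgv, map_add, map_smul, map_smul, hgv, hgw] at e1
    have e2 : ((1 + c * c) * (1 + c * c) + c * c - 1) • v + (-c * (1 + c * c) - c) • w = 0 := by
      linear_combination (norm := module) e1
    obtain ⟨h3, h4⟩ := hind _ _ e2
    have hc0 : c = 0 := by
      by_contra hne
      have h5 : c * c + 2 = 0 := by
        refine (mul_eq_zero.mp (show c * (c * c + 2) = 0 by linear_combination -h4)).resolve_left hne
      have h6 : c * c + 3 = 0 := by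
        refine (mul_eq_zero.mp (show (c * c) * (c * c + 3) = 0 by linear_combination h3)).resolve_left
          (mul_ne_zero hne hne)
      exact one_ne_zero (show (1 : F) = 0 by linear_combination h6 - h5)
    rw [hc0] at hgv hgw
    have hg1 : g = 1 := by
      refine Units.ext (LinearMap.ext fun x => ?_)
      rw [Units.val_one, Module.End.one_apply]
      have hd : (g : Module.End F V) x = x + ω x v • v + (-ω x w) • w := by
        rw [hgx, map_sub, LinearMap.sub_apply, map_smul, LinearMap.smul_apply, hwv, hc0, neg_zero,
          smul_zero, sub_zero]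
        module
      have e := h2v x
      rw [hd, map_add, map_add, map_smul, map_smul, hd, hgv, hgw] at e
      have e' : (ω x v + ω x v) • v + (-(ω x w + ω x w)) • w = 0 := by
        linear_combination (norm := module) e
      obtain ⟨h7, h8⟩ := hind _ _ e'
      have h7' : ω x v = 0 := (mul_eq_zero.mp (show (2 : F) * ω x v = 0 by linear_combination h7)).resolve_left D.two_ne
      have h8' : ω x w = 0 := (mul_eq_zero.mp (show (2 : F) * ω x w = 0 by linear_combination -h8)).resolve_left D.two_ne
      rw [hd, h7', h8']
      module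
    -- `t` commutes with `a`, so `a` fixes the line of `v`
    obtain ⟨x, hx⟩ := D.nondeg v (fun e => hv 0 (by simp [hw, e]))
    have e := congrArg (fun f : (Module.End F V)ˣ => (f : Module.End F V) x) hg1
    simp only [hgx, Units.val_one, Module.End.one_apply, map_sub, map_smul, LinearMap.sub_apply,
      LinearMap.smul_apply, hwv, hc0, neg_zero, smul_zero, sub_zero] at e
    have e' : (ω x v) • v + (-ω x w) • w = 0 := by linear_combination (norm := module) e
    exact hx (by rw [← LinearMap.IsAlt.neg D.alt x v, (hind _ _ e').1, neg_zero])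
  · obtain ⟨x, hx, hx0⟩ : ∃ x ∈ LinearMap.ker ((ω.flip v).prod (ω.flip w)), x ≠ 0 := by
      refine Submodule.exists_mem_ne_zero_of_ne_bot fun hb => ?_
      have h1 := LinearMap.finrank_le_finrank_of_injective (LinearMap.ker_eq_bot.mp hb)
      rw [D.dim, Module.finrank_prod, Module.finrank_self] at h1
      have : 2 ^ 2 ≤ 2 ^ k := Nat.pow_le_pow_right two_pos hk
      omega
    simp only [LinearMap.mem_ker, LinearMap.prod_apply, Function.prod_apply, Prod.mk_eq_zero,
      LinearMap.flip_apply] at hx
    have hx1 : ω x v = 0 := hx.1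
    have hx2 : ω x w = 0 := hx.2
    have hfix : (g : Module.End F V) x = x := by
      rw [hgx, hx2, zero_smul, sub_zero, hx1, zero_smul, add_zero]
    have e := congrArg (fun f : (Module.End F V)ˣ => (f : Module.End F V) x) h2
    simp only [Units.val_mul, Module.End.mul_apply, hfix, Units.val_neg, Units.val_one,
      LinearMap.neg_apply, Module.End.one_apply] at e
    have e2 : (2 : F) • x = 0 := by rw [two_smul]; nth_rewrite 1 [e]; exact neg_add_cancel x
    exact hx0 ((smul_eq_zero.mp e2).resolve_left D.two_ne)

end Cfsg.Agent.Lib.Sym78T
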