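import Cfsg.Agent.Lib.Sym78T.Base
import Cfsg.Agent.Lib.Sym78T.Proper
import Cfsg.Agent.Lib.Sym78T.Gen

/-!
The induction: maximality in every dimension follows from one step, which says that an overgroup of
the normaliser either normalises the group or contains every transvection, given maximality one
dimension lower.
-/

set_option autoImplicit false
set_option linter.style.haveILetI false

namespace Cfsg.Agent.Lib.Sym78T

open Cfsg Cfsg.Geo Matrix
open Cfsg.Agent.Lib

universe u v

variable {F : Type u} [Field F]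

/-- Maximality for all groups of level `k`. -/
def MaxAt (F : Type u) [Field F] (k : ℕ) : Prop :=
  ∀ (V : Type v) [AddCommGroup V] [Module F V] [Finite V] (ω : LinearMap.BilinForm F V)
    (R : Subgroup (Module.End F V)ˣ), Sym78.Ext ω k R →
      IsMaximalIn (Sym78.spSub ω) (Subgroup.normalizer (R : Set (Module.End F V)ˣ) ⊓ Sym78.spSub ω)

/-- The step of the induction. -/
def StepAt (F : Type u) [Field F] (k : ℕ) : Prop :=
  MaxAt.{u, v} F k → ∀ (V : Type v) [AddCommGroup V] [Module F V] [Finite V]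
    (ω : LinearMap.BilinForm F V) (R M : Subgroup (Module.End F V)ˣ), Sym78.Ext ω (k + 1) R →
      Subgroup.normalizer (R : Set (Module.End F V)ˣ) ⊓ Sym78.spSub ω ≤ M → M ≤ Sym78.spSub ω →
      M ≤ Subgroup.normalizer (R : Set (Module.End F V)ˣ) ∨ Sym78.Full ω M

theorem maxAt [Fintype F] (hp : (Fintype.card F).Prime) (k : ℕ) (hk : 2 ≤ k)
    (hstep : ∀ j, 2 ≤ j → j < k → StepAt.{u, v} F j) : MaxAt.{u, v} F k := by
  induction k, hk using Nat.le_induction with
  | base => intro V _ _ _ ω R D; exact isMaximalIn_two D hp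
  | succ k hk ih =>
    intro V _ _ _ ω R D
    refine ⟨normalizer_lt D (by omega), fun M h1 h2 => ?_⟩
    rcases hstep k hk (Nat.lt_succ_self k) (ih fun j hj hjk => hstep j hj (by omega)) V ω R M D h1 h2 with h | h
    · exact Or.inl (le_antisymm (le_inf h h2) h1)
    · exact Or.inr (le_antisymm h2 (spSub_le_of_full D h))

/-- The form of the statements. -/
theorem isMaximalIn_standard [Fintype F] {p k m : ℕ} (hm : 1 ≤ m) (hk : 2 ≤ k) (hp : p.Prime)
    (hpo : Odd p) (hF : Fintype.card F = p)
    (hstep : ∀ j, 2 ≤ j → j < k → StepAt.{u, u} F j)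
    (R : Subgroup (GL (Fin m ⊕ Fin m) F))
    (hR : IsSymplecticTypeGroup 2 R) (hirr : ActsAbsolutelyIrreducibly (matrixSet R))
    (hRD : R ≤ spGL m F) (hcard : Nat.card R = 2 ^ (1 + 2 * k))
    (hZ : Nat.card (Subgroup.center R) = 2) (hminus : IsOfMinusType k R) :
    IsMaximalIn (spGL m F) (subgroupNormalizer R ⊓ spGL m F) :=
  isMaximalIn_of_hyps hm hp hpo hF R hR hirr hRD hcard hZ hminus fun R' D =>
    maxAt (hF ▸ hp) k hk hstep _ (stdForm m F) R' D

end Cfsg.Agent.Lib.Sym78T
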