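import Cfsg.Agent.Lib.Sym78T.Driver
import Cfsg.Agent.Lib.Sym78.Step

/-!
The step of the induction, from the centraliser lemma and the fusion lemma.
-/

set_option autoImplicit false
set_option linter.style.haveILetI false

namespace Cfsg.Agent.Lib.Sym78T

open Cfsg Cfsg.Geo
open Cfsg.Agent.Lib

universe u v

theorem stepAt (F : Type u) [Field F] (k : ℕ) (hk : 2 ≤ k) : StepAt.{u, v} F k := by
  intro hMax V _ _ _ ω R M D h1 h2
  have hlow : Sym78.LowerStep ω R := by
    intro s w S H hH1 hH2
    haveI : Finite (LinearMap.ker ((s : Module.End F V) - 1) : Submodule F V) :=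
      Finite.of_injective _ (Submodule.injective_subtype _)
    rcases (hMax _ _ _ (D.res S)).2 H hH1 hH2 with e | e
    · exact Or.inl (e.le.trans inf_le_left)
    · exact Or.inr fun g x c hg => e ▸ hg.mem_spSub (D.res S).alt
  by_cases hf : Sym78.Full ω M
  · exact Or.inr hf
  left
  refine D.le_normalizer_of_centralizer h1 h2 (by omega) fun s hs hs2 hs1 hsn => ?_
  exact (D.centralizer_or_full hk hlow h1 h2 hs hs2 hs1 hsn).resolve_right hf

end Cfsg.Agent.Lib.Sym78T
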