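import Cfsg.Agent.Lib.Sym78.Basic
import Cfsg.Agent.Lib.MaxClass.NotTopSymp
import Cfsg.Agent.Lib.MaxClass.Degree
import Cfsg.Agent.Lib.SympMax.Decomp
import Cfsg.Agent.Lib.TensorOrth.Transfer

/-!
Between matrices preserving the standard symplectic form and isometries of an alternating space:
the structure of a group of symplectic type, and maximality, transported both ways.
-/

set_option autoImplicit false
set_option linter.style.haveILetI false
set_option linter.unusedSectionVars false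

namespace Cfsg.Agent.Lib.Sym78T

open Cfsg Cfsg.Geo Matrix
open Cfsg.Agent.Lib
open scoped commutatorElement

variable {F : Type*} [Field F] {m : ℕ}

local notation "ιS" => (Fin m ⊕ Fin m)

/-- The standard symplectic form as a bilinear map. -/
def stdForm (m : ℕ) (F : Type*) [Field F] :
    LinearMap.BilinForm F (Fin m ⊕ Fin m → F) :=
  LinearMap.mk₂ F (sympForm m F) MaxClass.sympForm_add_left MaxClass.sympForm_smul_left
    MaxClass.sympForm_add_right MaxClass.sympForm_smul_right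

theorem stdForm_apply (u v : ιS → F) : stdForm m F u v = sympForm m F u v := rfl

variable {V : Type*} [AddCommGroup V] [Module F V]

/-- Matrices as units of the endomorphism ring of a space identified with coordinates. -/
noncomputable def toEnd (Ψ : (ιS → F) ≃ₗ[F] V) : GL ιS F ≃* (Module.End F V)ˣ :=
  Matrix.GeneralLinearGroup.toLin.trans (LinearMap.GeneralLinearGroup.congrLinearEquiv Ψ)

theorem toEnd_apply (Ψ : (ιS → F) ≃ₗ[F] V) (g : GL ιS F) (v : V) :
    ((toEnd Ψ g : (Module.End F V)ˣ) : Module.End F V) v = Ψ ((g : Matrix ιS ιS F) *ᵥ Ψ.symm v) :=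
  rfl

theorem toEnd_neg_one (Ψ : (ιS → F) ≃ₗ[F] V) : toEnd Ψ (-1 : GL ιS F) = -1 := by
  refine Units.ext (LinearMap.ext fun v => ?_)
  rw [toEnd_apply]
  simp [Matrix.neg_mulVec]

/-- The two isometry groups correspond. -/
theorem map_spGL (Ψ : (ιS → F) ≃ₗ[F] V) (ω : LinearMap.BilinForm F V)
    (hΨ : ∀ u v, ω (Ψ u) (Ψ v) = sympForm m F u v) :
    (spGL m F).map (toEnd Ψ).toMonoidHom = Sym78.spSub ω := by
  ext x
  constructor
  · rintro ⟨g, hg, rfl⟩ u v
    show ω ((toEnd Ψ g : Module.End F V) u) ((toEnd Ψ g : Module.End F V) v) = ω u v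
    rw [toEnd_apply, toEnd_apply, hΨ,
      show sympForm m F ((g : Matrix ιS ιS F) *ᵥ Ψ.symm u) ((g : Matrix ιS ιS F) *ᵥ Ψ.symm v) =
        sympForm m F (Ψ.symm u) (Ψ.symm v) from hg _ _, ← hΨ,
      Ψ.apply_symm_apply, Ψ.apply_symm_apply]
  · intro hx
    obtain ⟨g, rfl⟩ := (toEnd Ψ).surjective x
    refine ⟨g, fun u v => ?_, rfl⟩
    have h := hx (Ψ u) (Ψ v)
    rw [toEnd_apply, toEnd_apply, Ψ.symm_apply_apply, Ψ.symm_apply_apply, hΨ, hΨ] at h
    exact h

/-- Normalisers correspond. -/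
theorem map_subgroupNormalizer (Ψ : (ιS → F) ≃ₗ[F] V) (R : Subgroup (GL ιS F)) :
    (subgroupNormalizer R).map (toEnd Ψ).toMonoidHom =
      Subgroup.normalizer ((R.map (toEnd Ψ).toMonoidHom : Subgroup _) : Set (Module.End F V)ˣ) :=
  Subgroup.map_equiv_normalizer_eq R (toEnd Ψ)

/-- Maximality of the normaliser may be proved on either side. -/
theorem isMaximalIn_iff (Ψ : (ιS → F) ≃ₗ[F] V) (ω : LinearMap.BilinForm F V)
    (hΨ : ∀ u v, ω (Ψ u) (Ψ v) = sympForm m F u v) (R : Subgroup (GL ιS F)) :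
    IsMaximalIn (spGL m F) (subgroupNormalizer R ⊓ spGL m F) ↔
      IsMaximalIn (Sym78.spSub ω) (Subgroup.normalizer
        ((R.map (toEnd Ψ).toMonoidHom : Subgroup _) : Set (Module.End F V)ˣ) ⊓ Sym78.spSub ω) := by
  have e : (subgroupNormalizer R ⊓ spGL m F).map (toEnd Ψ).toMonoidHom = Subgroup.normalizer
      ((R.map (toEnd Ψ).toMonoidHom : Subgroup _) : Set (Module.End F V)ˣ) ⊓ Sym78.spSub ω := by
    rw [Subgroup.map_inf_eq _ _ _ (toEnd Ψ).injective, map_subgroupNormalizer, map_spGL Ψ ω hΨ]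
  rw [← e, ← map_spGL Ψ ω hΨ]
  refine ⟨fun h => TensorOrth.isMaximalIn_map (toEnd Ψ) h, fun h => ?_⟩
  have h' := TensorOrth.isMaximalIn_map (toEnd Ψ).symm h
  rwa [Subgroup.map_map, Subgroup.map_map,
    show (toEnd Ψ).symm.toMonoidHom.comp (toEnd Ψ).toMonoidHom = MonoidHom.id _ from
      MonoidHom.ext (toEnd Ψ).symm_apply_apply, Subgroup.map_id, Subgroup.map_id] at h'

/-- A symplectic basis. -/
theorem exists_isometry {ω : LinearMap.BilinForm F V} (alt : ∀ v, ω v v = 0)
    (nondeg : ∀ v, v ≠ 0 → ∃ w, ω v w ≠ 0) [FiniteDimensional F V]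
    (hd : Module.finrank F V = m + m) :
    ∃ Ψ : (ιS → F) ≃ₗ[F] V, ∀ u v, ω (Ψ u) (Ψ v) = sympForm m F u v := by
  classical
  let c : (ιS → F) ≃ₗ[F] V := LinearEquiv.ofFinrankEq _ _ (by simp [hd])
  have hskew : ∀ u v, ω u v = -ω v u := fun u v => (LinearMap.IsAlt.neg alt v u).symm
  have key : ∀ f : (ιS → F) → (ιS → F) → F, IsSymplecticForm f →
      ∃ Φ : (Fin 2 × Fin m → F) ≃ₗ[F] (ιS → F),
        ∀ u v, f (Φ u) (Φ v) = ∑ j, (u (0, j) * v (1, j) - u (1, j) * v (0, j)) := by
    intro f hf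
    obtain ⟨b, hb, Φ, hΦ⟩ := LinClasses.exists_symp_basis hf
    obtain rfl : b = m := by simp at hb; omega
    exact ⟨Φ, hΦ⟩
  obtain ⟨Φ, hΦ⟩ := key (fun u v => ω (c u) (c v))
    ⟨⟨fun x y v => by simp, fun a x v => by simp, fun v x y => by simp, fun a v x => by simp⟩,
      fun u v => hskew _ _, fun u => alt _, fun u hu => by
        obtain ⟨w, hw⟩ := nondeg (c u) (fun e => hu (c.map_eq_zero_iff.mp e))
        exact ⟨⟨c.symm w, by rw [hskew, c.apply_symm_apply, neg_ne_zero]; exact hw⟩,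
          ⟨c.symm w, by rw [c.apply_symm_apply]; exact hw⟩⟩⟩
  obtain ⟨Φ', hΦ'⟩ := key (sympForm m F)
    ⟨⟨MaxClass.sympForm_add_left, MaxClass.sympForm_smul_left, MaxClass.sympForm_add_right,
        MaxClass.sympForm_smul_right⟩,
      MaxClass.sympForm_skew, MaxClass.sympForm_self, fun u hu =>
        ⟨MaxClass.sympForm_nondeg hu, MaxClass.sympForm_nondeg' hu⟩⟩
  refine ⟨(Φ'.symm.trans Φ).trans c, fun u v => ?_⟩
  simp only [LinearEquiv.trans_apply]
  rw [hΦ, ← hΦ', Φ'.apply_symm_apply, Φ'.apply_symm_apply]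

/-- The hypotheses of the maximality statements give a group of symplectic type. -/
theorem ext_of_hyps [Fintype F] {p k : ℕ} (hm : 1 ≤ m) (hp : p.Prime) (hpo : Odd p)
    (hF : Fintype.card F = p) (Ψ : (ιS → F) ≃ₗ[F] V) (ω : LinearMap.BilinForm F V)
    (hΨ : ∀ u v, ω (Ψ u) (Ψ v) = sympForm m F u v) (R : Subgroup (GL ιS F))
    (hR : IsSymplecticTypeGroup 2 R) (hirr : ActsAbsolutelyIrreducibly (matrixSet R))
    (hRD : R ≤ spGL m F) (hcard : Nat.card R = 2 ^ (1 + 2 * k))
    (hZ : Nat.card (Subgroup.center R) = 2) (hminus : IsOfMinusType k R) :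
    Sym78.Ext ω k (R.map (toEnd Ψ).toMonoidHom) := by
  classical
  haveI : Fact p.Prime := ⟨hp⟩
  haveI : CharP F p := charP_of_card_eq_prime hF
  haveI : Nonempty ιS := ⟨Sum.inl ⟨0, hm⟩⟩
  haveI : Finite R := Nat.finite_of_card_ne_zero (by rw [hcard]; positivity)
  have hp2 : (2 : ℕ) ≠ p := fun e => by subst e; exact absurd hpo (by decide)
  have h2 : (2 : F) ≠ 0 := fun e => hp2 ((Nat.prime_dvd_prime_iff_eq hp Nat.prime_two).mp
    ((CharP.cast_eq_zero_iff F p 2).mp (by exact_mod_cast e))).symm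
  have hclass : commutator R ≤ Subgroup.center R :=
    MaxClass.commutator_le_center_of_exponent_four hR.pGroup hR.cyclic_of_characteristic
      (by rw [hR.exponent_eq]; norm_num) hZ
  have hnon : Nontrivial V := Ψ.symm.toEquiv.nontrivial
  have hneg : (-1 : GL ιS F) ≠ 1 := by
    intro h
    have h' := congrArg (fun g : GL ιS F => (g : Matrix ιS ιS F) (Sum.inl ⟨0, hm⟩) (Sum.inl ⟨0, hm⟩)) h
    simp at h'
    exact h2 (by linear_combination (-1 : F) * h')
  -- the centre
  have hcen : ∀ a : R, a ∈ Subgroup.center R → (a : GL ιS F) = 1 ∨ (a : GL ιS F) = -1 := by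
    intro a ha
    obtain ⟨c, hc⟩ := (mem_scalars_iff _).mp (MaxClass.center_mem_scalars hirr ha)
    have hsq : a ^ 2 = 1 := by
      have : (⟨a, ha⟩ : Subgroup.center R) ^ Nat.card (Subgroup.center R) = 1 := pow_card_eq_one'
      rw [hZ] at this
      exact congrArg Subtype.val this
    have hsq' := congrArg (fun x : R => ((x : GL ιS F) : Matrix ιS ιS F)) hsq
    simp only [SubgroupClass.coe_pow, Units.val_pow_eq_pow_val, hc, _root_.smul_pow, one_pow,
      OneMemClass.coe_one, Units.val_one] at hsq'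
    have h1 : (c : F) ^ 2 = 1 := by
      simpa using congrFun (congrFun hsq' (Sum.inl ⟨0, hm⟩)) (Sum.inl ⟨0, hm⟩)
    rcases sq_eq_one_iff.mp h1 with h | h
    · left; exact Units.ext (by simp [hc, h])
    · right; exact Units.ext (by simp [hc, h])
  have hnegR : (-1 : GL ιS F) ∈ R := by
    obtain ⟨x, y, hxy, -⟩ := Nat.card_eq_two_iff.mp hZ
    rcases hcen x x.2 with h | h
    · rcases hcen y y.2 with h' | h'
      · exact absurd (Subtype.ext (Subtype.ext (h.trans h'.symm))) hxy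
      · exact h' ▸ (y : R).2
    · exact h ▸ (x : R).2
  have hcm : ∀ a b : R, ⁅a, b⁆ ∈ Subgroup.center R := fun a b =>
    hclass (Subgroup.commutator_mem_commutator (Subgroup.mem_top a) (Subgroup.mem_top b))
  have hcc : ∀ a ∈ R, ∀ b ∈ R, a * b = b * a ∨ a * b = -(b * a) := by
    intro a ha b hb
    have h : ((⁅(⟨a, ha⟩ : R), ⟨b, hb⟩⁆ : R) : GL ιS F) = a * b * a⁻¹ * b⁻¹ := rfl
    rcases hcen _ (hcm ⟨a, ha⟩ ⟨b, hb⟩) with e | e <;> rw [h] at e
    · exact Or.inl (mul_inv_eq_iff_eq_mul.mp (mul_inv_eq_one.mp e))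
    · right
      rw [mul_inv_eq_iff_eq_mul, mul_inv_eq_iff_eq_mul] at e
      rw [e, neg_one_mul, neg_mul]
  have hsqc : ∀ a ∈ R, ∀ b ∈ R, (a * a) * b = b * (a * a) := by
    intro a ha b hb
    rcases hcc a ha b hb with e | e
    · rw [mul_assoc, e, ← mul_assoc, e, mul_assoc]
    · rw [mul_assoc, e, mul_neg, ← mul_assoc, e, neg_mul, neg_neg, mul_assoc]
  have hsq : ∀ a ∈ R, a * a = 1 ∨ a * a = -1 := fun a ha =>
    hcen ⟨a * a, mul_mem ha ha⟩ (Subgroup.mem_center_iff.mpr fun b =>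
      Subtype.ext (hsqc a ha b b.2).symm)
  have hdim : Fintype.card ιS = 2 ^ k :=
    MaxClass.symplecticType_degree_of_class hp2 hR hirr hZ hclass (by rw [hcard]; ring)
  have hskew : ∀ u v : V, ω u v = -ω v u := fun u v => by
    rw [← Ψ.apply_symm_apply u, ← Ψ.apply_symm_apply v, hΨ, hΨ]
    exact MaxClass.sympForm_skew _ _
  have hinj := (toEnd Ψ).injective
  have hone := map_one (toEnd Ψ)
  exact {
    two_ne := h2
    nontriv := hnon
    alt := fun v => by rw [← Ψ.apply_symm_apply v, hΨ]; exact MaxClass.sympForm_self _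
    nondeg := fun v hv => by
      obtain ⟨x, hx⟩ := MaxClass.sympForm_nondeg' (m := m) (v := Ψ.symm v)
        (fun e => hv (Ψ.symm.map_eq_zero_iff.mp e))
      exact ⟨Ψ x, by rwa [← Ψ.apply_symm_apply v, hΨ]⟩
    le := by rw [← map_spGL Ψ ω hΨ]; exact Subgroup.map_mono hRD
    neg := ⟨-1, hnegR, toEnd_neg_one Ψ⟩
    card := by rw [Subgroup.card_map_of_injective (f := (toEnd Ψ).toMonoidHom) hinj, hcard]
    sq := by
      rintro _ ⟨a, ha, rfl⟩
      rcases hsq a ha with e | e
      · exact Or.inl (by rw [← map_mul, e, map_one])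
      · exact Or.inr (by rw [← map_mul, e]; exact toEnd_neg_one Ψ)
    comm := by
      rintro _ ⟨a, ha, rfl⟩ _ ⟨b, hb, rfl⟩
      rcases hcc a ha b hb with e | e
      · exact Or.inl (by rw [← map_mul, ← map_mul, e])
      · refine Or.inr ?_
        rw [← map_mul, ← map_mul, e, ← neg_one_mul (b * a), map_mul (toEnd Ψ).toMonoidHom]
        show toEnd Ψ (-1) * _ = _
        rw [toEnd_neg_one, neg_one_mul]
    center := by
      rintro _ ⟨a, ha, rfl⟩ h
      have hc : (⟨a, ha⟩ : R) ∈ Subgroup.center R := Subgroup.mem_center_iff.mpr fun b =>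
        Subtype.ext (hinj (by
          have := (h _ ⟨b, b.2, rfl⟩).symm
          rw [← map_mul, ← map_mul] at this
          exact this))
      rcases hcen _ hc with e | e
      · exact Or.inl (by simp [show a = 1 from e])
      · exact Or.inr (by rw [show a = -1 from e]; exact toEnd_neg_one Ψ)
    scalar := fun T hT => by
      let M : Matrix ιS ιS F := LinearMap.toMatrix' (Ψ.symm.toLinearMap ∘ₗ T ∘ₗ Ψ.toLinearMap)
      have hMv : ∀ u, M *ᵥ u = Ψ.symm (T (Ψ u)) := fun u => by
        show Matrix.toLin' M u = _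
        rw [Matrix.toLin'_toMatrix']
        rfl
      obtain ⟨c, hc⟩ := hirr.2 M (by
        rintro s ⟨a, ha, rfl⟩
        refine Matrix.ext_of_mulVec_single fun i => ?_
        rw [← Matrix.mulVec_mulVec, ← Matrix.mulVec_mulVec, hMv, hMv]
        have h := LinearMap.congr_fun (hT _ ⟨a, ha, rfl⟩) (Ψ (Pi.single i 1))
        simp only [Module.End.mul_apply, MulEquiv.coe_toMonoidHom, toEnd_apply, Ψ.symm_apply_apply] at h
        rw [h, Ψ.symm_apply_apply])
      refine ⟨c, LinearMap.ext fun v => ?_⟩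
      have h := hMv (Ψ.symm v)
      rw [Ψ.apply_symm_apply, hc, Matrix.smul_mulVec, Matrix.one_mulVec] at h
      have := congrArg Ψ h
      rw [Ψ.apply_symm_apply, map_smul, Ψ.apply_symm_apply] at this
      simpa using this.symm
    minus := by
      intro E hE hc hs
      let E' : Subgroup (GL ιS F) := E.comap (toEnd Ψ).toMonoidHom
      have hle : E' ≤ R := fun x hx => by
        obtain ⟨a, ha, e⟩ := hE hx
        exact hinj e ▸ ha
      have hE' : E'.map (toEnd Ψ).toMonoidHom = E :=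
        Subgroup.map_comap_eq_self_of_surjective (toEnd Ψ).surjective E
      haveI hI : IsMulCommutative (E'.subgroupOf R) := ⟨⟨fun x y => Subtype.ext (Subtype.ext (hinj (by
        have := hc _ x.2 _ y.2
        simpa using this)))⟩⟩
      have := hminus (E'.subgroupOf R) hI fun x hx => Subtype.ext (hinj (by
        have := hs _ hx
        simpa using this))
      rwa [Nat.card_congr (Subgroup.subgroupOfEquivOfLe hle).toEquiv,
        ← Subgroup.card_map_of_injective (K := E') (f := (toEnd Ψ).toMonoidHom) hinj, hE'] at this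
    dim := by rw [← Ψ.finrank_eq, Module.finrank_fintype_fun_eq_card, hdim] }

/-- It is enough to treat alternating spaces. -/
theorem isMaximalIn_of_hyps [Fintype F] {p k : ℕ} (hm : 1 ≤ m) (hp : p.Prime) (hpo : Odd p)
    (hF : Fintype.card F = p) (R : Subgroup (GL ιS F))
    (hR : IsSymplecticTypeGroup 2 R) (hirr : ActsAbsolutelyIrreducibly (matrixSet R))
    (hRD : R ≤ spGL m F) (hcard : Nat.card R = 2 ^ (1 + 2 * k))
    (hZ : Nat.card (Subgroup.center R) = 2) (hminus : IsOfMinusType k R)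
    (h : ∀ R' : Subgroup (Module.End F (ιS → F))ˣ, Sym78.Ext (stdForm m F) k R' →
      IsMaximalIn (Sym78.spSub (stdForm m F))
        (Subgroup.normalizer (R' : Set (Module.End F (ιS → F))ˣ) ⊓ Sym78.spSub (stdForm m F))) :
    IsMaximalIn (spGL m F) (subgroupNormalizer R ⊓ spGL m F) :=
  (isMaximalIn_iff (LinearEquiv.refl F (ιS → F)) (stdForm m F) (fun _ _ => rfl) R).mpr
    (h _ (ext_of_hyps hm hp hpo hF (LinearEquiv.refl F (ιS → F)) (stdForm m F) (fun _ _ => rfl)
      R hR hirr hRD hcard hZ hminus))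

end Cfsg.Agent.Lib.Sym78T
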